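import Cfsg.Agent.MaxClass.TwoStepNormal
import Cfsg.Agent.MaxClass.UpperCard
import Cfsg.Agent.Core.Hall

/-!
Normal subgroups of a `p`-group of maximal class: the terms of the lower central series and the
subgroups of index `p`; characteristic chains in the latter.
-/

set_option autoImplicit false

namespace Cfsg.Agent.MaxClassNormal

open Subgroup
open scoped commutatorElement
open Cfsg.Agent.MaxClass Cfsg.Agent.MaxClass.TwoStep
open Cfsg.Agent.MaxClass.Graded (L_anti L_comm L_comm_x MX)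

universe u

variable {X : Type u} [Group X] [Finite X] {p n : ℕ} [hp : Fact p.Prime]

theorem exists_off (h : MCl p n X) {a : X} :
    ∃ g : X, g ∉ zpowers a ⊔ (⊤ : Subgroup X).lowerCentralSeries 1 := by
  by_contra! hall
  have h1 := PowMax.cyc_sup_comm a 1
  rw [(eq_top_iff' _).2 hall] at h1
  obtain ⟨v, hv, hv'⟩ := h.ne_step (i := 1) le_rfl (by have := h.three; omega)
  exact hv' (h1 hv)

/-- A normal proper subgroup outside the derived subgroup has index `p`. -/
theorem index_of_outside (h : MCl p n X) {A : Subgroup X} [A.Normal] (hA : A ≠ ⊤) {a : X} (ha : a ∈ A)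
    (ha1 : a ∉ (⊤ : Subgroup X).lowerCentralSeries 1) :
    (⊤ : Subgroup X).lowerCentralSeries 1 ≤ A ∧ A.index = p := by
  have h3 := h.three
  obtain ⟨g, hg⟩ := exists_off h (a := a)
  have he := h.eSeq_exact_le (m := 1) (by omega) ha1 hg (fun i h1 h2 => by omega) 1 le_rfl le_rfl
  have hgaA : ⁅g, a⁆ ∈ A := by
    rw [commutatorElement_def]
    exact A.mul_mem (Subgroup.Normal.conj_mem inferInstance a ha g) (A.inv_mem ha)
  have hle : (⊤ : Subgroup X).lowerCentralSeries 1 ≤ A :=
    h.lcs_le_of_mem (n - 3) 1 (by omega) le_rfl _ hgaA (L_comm_x (i := 0) (Subgroup.mem_top a) g) he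
  refine ⟨hle, ?_⟩
  obtain ⟨k, hk⟩ := IsPGroup.iff_card.1 (h.pgrp.to_subgroup A)
  have hlt : p ^ (n - 1 - 1) < p ^ k := by
    rw [← h.cardL le_rfl, ← hk]
    exact lt_of_le_of_ne (card_le_of_le hle) fun e => ha1 ((eq_of_le_of_card_ge hle e.ge).symm ▸ ha)
  have hlt2 : p ^ k < p ^ n := by
    rw [← hk, ← h.cardX]
    exact lt_of_le_of_ne (card_le_card_group A) fun e => hA (eq_top_of_card_eq A e)
  have := (Nat.pow_lt_pow_iff_right hp.out.one_lt).1 hlt
  have := (Nat.pow_lt_pow_iff_right hp.out.one_lt).1 hlt2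
  have hm := A.card_mul_index
  rw [hk, h.cardX, show n = k + 1 by omega, pow_succ] at hm
  exact Nat.eq_of_mul_eq_mul_left (pow_pos hp.out.pos k) hm

/-- A normal subgroup inside the derived subgroup is a term of the lower central series. -/
theorem eq_lcs_of_le (h : MCl p n X) {A : Subgroup X} [A.Normal]
    (hA : A ≤ (⊤ : Subgroup X).lowerCentralSeries 1) :
    ∃ r, 1 ≤ r ∧ r ≤ n - 1 ∧ A = (⊤ : Subgroup X).lowerCentralSeries r := by
  classical
  have h3 := h.three
  by_cases hbot : A ≤ (⊤ : Subgroup X).lowerCentralSeries (n - 1)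
  · exact ⟨n - 1, by omega, le_rfl,
      le_antisymm hbot fun g hg => by rw [h.eq_one le_rfl hg]; exact one_mem A⟩
  have hex : ∃ j, ¬ A ≤ (⊤ : Subgroup X).lowerCentralSeries j := ⟨n - 1, hbot⟩
  set j := Nat.find hex with hj
  have hjn : j ≤ n - 1 := Nat.find_min' hex hbot
  have hj2 : 2 ≤ j := by
    by_contra hlt
    exact Nat.find_spec hex (hA.trans (L_anti (by omega)))
  have hr : A ≤ (⊤ : Subgroup X).lowerCentralSeries (j - 1) :=
    not_not.1 (Nat.find_min hex (show j - 1 < j by omega))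
  obtain ⟨a, ha, ha'⟩ := SetLike.not_le_iff_exists.1 (Nat.find_spec hex)
  refine ⟨j - 1, by omega, by omega, le_antisymm hr ?_⟩
  exact h.lcs_le_of_mem (n - 2 - (j - 1)) (j - 1) (by omega) (by omega) a ha (hr ha)
    (by rw [show j - 1 + 1 = j by omega]; exact ha')

theorem lcs_injective (h : MCl p n X) {i j : ℕ} (hi : 1 ≤ i) (hi' : i ≤ n - 1) (hj : 1 ≤ j) (hj' : j ≤ n - 1)
    (e : (⊤ : Subgroup X).lowerCentralSeries i = (⊤ : Subgroup X).lowerCentralSeries j) : i = j := by
  have h1 := h.cardL hi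
  rw [e, h.cardL hj] at h1
  have := Nat.pow_right_injective hp.out.two_le h1
  omega

/-- The second centre. -/
theorem upperCentralSeries_two (h : MCl p n X) (h4 : 4 ≤ n) :
    Subgroup.upperCentralSeries X 2 = (⊤ : Subgroup X).lowerCentralSeries (n - 3) := by
  haveI := h.pgrp.isNilpotent
  have hne : (⊤ : Subgroup X).lowerCentralSeries (n - 2) ≠ ⊥ := fun e => by
    have h1 := h.cardL (i := n - 2) (by omega)
    rw [e, card_bot, show n - 1 - (n - 2) = 1 by omega, pow_one] at h1
    exact hp.out.ne_one h1.symm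
  refine (eq_of_le_of_card_ge (fun g hg => Subgroup.mem_upperCentralSeries_succ_iff.2 fun y => ?_) ?_).symm
  · have h1 : ⁅g, y⁆ ∈ (⊤ : Subgroup X).lowerCentralSeries (n - 2) := by
      have h0 : ⁅y, g⁆ ∈ (⊤ : Subgroup X).lowerCentralSeries (n - 3 + 1) := L_comm_x hg y
      rw [← commutatorElement_inv y g, show n - 2 = n - 3 + 1 by omega]
      exact inv_mem h0
    rw [Subgroup.upperCentralSeries_one]
    refine mem_center_iff.2 fun z => ?_
    exact commutatorElement_eq_one_iff_mul_comm.1 (h.eq_one (i := n - 2 + 1) (by omega) (L_comm_x h1 z))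
  · rw [MaxClass.card_upperCentralSeries h.cardX (by omega) hne (i := 2) (by omega),
      h.cardL (i := n - 3) (by omega), show n - 1 - (n - 3) = 2 by omega]

theorem mem_K_last (h : MCl p n X) (h4 : 4 ≤ n) {g : X} :
    g ∈ K X (n - 3) ↔ ∀ v ∈ (⊤ : Subgroup X).lowerCentralSeries (n - 3), v * g = g * v := by
  rw [mem_K]
  refine forall₂_congr fun v hv => ⟨fun h1 => ?_, fun h1 => ?_⟩
  · exact (commutatorElement_eq_one_iff_mul_comm.1 (h.eq_one (by omega) h1)).symm
  · rw [commutatorElement_eq_one_iff_mul_comm.2 h1.symm]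
    exact one_mem _

/-- A group of order `p ^ 3` that is not commutative. -/
theorem isExtraspecial_of_card {P : Type u} [Group P] [Finite P] (hc : Nat.card P = p ^ 3)
    (hna : ∃ a b : P, a * b ≠ b * a) : Cfsg.IsExtraspecial p P := by
  have hP : IsPGroup p P := IsPGroup.of_card hc
  haveI := hP.isNilpotent
  haveI : Nontrivial P := by
    obtain ⟨a, b, hab⟩ := hna
    exact ⟨a * b, b * a, hab⟩
  obtain ⟨k, hk⟩ := IsPGroup.iff_card.1 (hP.to_subgroup (center P))
  have hk1 : 1 ≤ k := by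
    by_contra hlt
    haveI := hP.center_nontrivial
    have h1 := Finite.one_lt_card (α := center P)
    rw [hk, show k = 0 by omega, pow_zero] at h1
    exact lt_irrefl _ h1
  have hidx : (center P).index = p ^ (3 - k) ∧ k ≤ 3 := by
    have h1 := (center P).card_mul_index
    rw [hk, hc] at h1
    have hle : k ≤ 3 := (Nat.pow_dvd_pow_iff_le_right hp.out.one_lt).1 ⟨_, h1.symm⟩
    refine ⟨Nat.eq_of_mul_eq_mul_left (pow_pos hp.out.pos k) (h1.trans ?_), hle⟩
    rw [← pow_add, Nat.add_sub_cancel' hle]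
  have hkeq : k = 1 := by
    by_contra hne
    haveI : IsCyclic (P ⧸ center P) := by
      rcases (by omega : k = 2 ∨ k = 3) with rfl | rfl
      · exact isCyclic_of_prime_card (p := p) (by rw [← index_eq_card, hidx.1, pow_one])
      · haveI : Subsingleton (P ⧸ center P) := (Nat.card_eq_one_iff_unique.1
          (by rw [← index_eq_card, hidx.1]; rfl)).1
        infer_instance
    obtain ⟨a, b, hab⟩ := hna
    exact hab (commutative_of_cyclic_center_quotient (QuotientGroup.mk' (center P))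
      (by rw [QuotientGroup.ker_mk']) a b)
  subst hkeq
  rw [pow_one] at hk
  have hcomm : commutator P ≤ center P := by
    have hq : Nat.card (P ⧸ center P) = p ^ 2 := by rw [← index_eq_card, hidx.1]
    rw [_root_.commutator_def, commutator_le]
    intro a _ b _
    exact PowMax.mem_of_commute_mk (IsPGroup.commutative_of_card_eq_prime_sq hq _ _)
  have hcne : commutator P ≠ ⊥ := fun e => by
    obtain ⟨a, b, hab⟩ := hna
    refine hab (commutatorElement_eq_one_iff_mul_comm.1 (Subgroup.mem_bot.1 (e ▸ ?_)))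
    exact Subgroup.commutator_mem_commutator (mem_top a) (mem_top b)
  have hceq : commutator P = center P := by
    rcases (Nat.dvd_prime hp.out).1 (hk ▸ card_dvd_of_le hcomm) with h1 | h1
    · exact absurd (card_eq_one.1 h1) hcne
    · exact eq_of_le_of_card_ge hcomm (by rw [h1, hk])
  refine ⟨⟨hP, (eq_of_le_of_card_ge (hceq ▸ Core.commutator_le_frattini) ?_).symm, hceq⟩, hk⟩
  -- the Frattini subgroup does not have index p
  obtain ⟨j, hj⟩ := IsPGroup.iff_card.1 (hP.to_subgroup (frattini P))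
  rw [hj, hk]
  by_contra hlt
  have hj2 : 2 ≤ j := by
    by_contra hle
    exact hlt ((Nat.pow_le_pow_right hp.out.pos (show j ≤ 1 by omega)).trans_eq (pow_one p))
  obtain ⟨a, b, hab⟩ := hna
  by_cases htop : frattini P = ⊤
  · have h1 : (⊥ : Subgroup P) = ⊤ := Core.eq_top_of_sup_frattini (K := ⊥) le_rfl (by rw [htop, sup_top_eq])
    exact hab (by rw [Subgroup.mem_bot.1 (h1 ▸ mem_top a : a ∈ (⊥ : Subgroup P)), one_mul, mul_one])
  obtain ⟨g, hg⟩ : ∃ g, g ∉ frattini P := by
    by_contra! hall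
    exact htop ((eq_top_iff' _).2 hall)
  have h2 : zpowers g ⊔ frattini P = ⊤ := by
    obtain ⟨i, hi⟩ := IsPGroup.iff_card.1 (hP.to_subgroup (zpowers g ⊔ frattini P))
    refine eq_top_of_le_card _ ?_
    rw [hc, hi]
    have : p ^ j < p ^ i := by
      rw [← hj, ← hi]
      exact lt_of_le_of_ne (card_le_of_le le_sup_right) fun e =>
        hg ((eq_of_le_of_card_ge le_sup_right e.ge).symm ▸ mem_sup_left (mem_zpowers g))
    have := (Nat.pow_lt_pow_iff_right hp.out.one_lt).1 this
    exact Nat.pow_le_pow_right hp.out.pos (by omega)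
  have h3 := Core.eq_top_of_sup_frattini le_rfl h2
  obtain ⟨ia, rfl⟩ := mem_zpowers_iff.1 (h3.symm ▸ mem_top a : a ∈ zpowers g)
  obtain ⟨ib, rfl⟩ := mem_zpowers_iff.1 (h3.symm ▸ mem_top b : b ∈ zpowers g)
  exact hab ((Commute.refl g).zpow_zpow ia ib).eq

omit [Finite X] in
theorem normal_of_lcs_le {A : Subgroup X} (hAL : (⊤ : Subgroup X).lowerCentralSeries 1 ≤ A) : A.Normal :=
  ⟨fun a ha g => by
    have h1 : ⁅g, a⁆ ∈ A := hAL (L_comm_x (i := 0) (Subgroup.mem_top a) g)
    have h2 := A.mul_mem h1 ha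
    rwa [commutatorElement_def, inv_mul_cancel_right] at h2⟩

section Index

variable (h : MCl p n X) (h4 : 4 ≤ n) (hp3 : 3 ≤ p) {A : Subgroup X}
  (hAL : (⊤ : Subgroup X).lowerCentralSeries 1 ≤ A) (hAi : A.index = p)
  (hK1 : A ≠ K X 1) (hKl : A ≠ K X (n - 3))
include h h4 hp3 hAL hAi hK1 hKl

theorem outside_K {g : X} (hg : g ∈ A) (hg1 : g ∉ (⊤ : Subgroup X).lowerCentralSeries 1) {i : ℕ}
    (hi : 1 ≤ i) (hi' : i ≤ n - 3) : g ∉ K X i := by
  intro hgK
  have hA : A ≠ ⊤ := fun e => hp.out.ne_one (by rw [← hAi, e, index_top])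
  have e : A = K X i := le_antisymm (h.le_of_mem hA hAL (h.L1_le_K i) hg1 hg hgK)
    (h.le_of_mem (h.K_ne_top hi hi') (h.L1_le_K i) hAL hg1 hgK hg)
  rcases (by omega : i ≤ n - 4 ∨ i = n - 3) with h2 | rfl
  · exact hK1 (e.trans (middle hp3 n X h i hi h2))
  · exact hKl e

omit h4 hp3 hK1 hKl in
theorem exists_gen : ∃ a ∈ A, a ∉ (⊤ : Subgroup X).lowerCentralSeries 1 ∧
    A = zpowers a ⊔ (⊤ : Subgroup X).lowerCentralSeries 1 := by
  have hA : A ≠ ⊤ := fun e => hp.out.ne_one (by rw [← hAi, e, index_top])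
  obtain ⟨a, ha, ha1⟩ : ∃ a ∈ A, a ∉ (⊤ : Subgroup X).lowerCentralSeries 1 := by
    by_contra! hall
    have h1 := A.card_mul_index
    rw [hAi, le_antisymm hall hAL, h.cardL le_rfl, h.cardX, ← pow_succ] at h1
    have := Nat.pow_right_injective hp.out.two_le h1
    have := h.three
    omega
  exact ⟨a, ha, ha1, le_antisymm
    (h.le_of_mem hA hAL le_sup_right ha1 ha (mem_sup_left (mem_zpowers a)))
    (sup_le (zpowers_le.2 ha) hAL)⟩

theorem exact_of_outside {g v : X} (hg : g ∈ A) (hg1 : g ∉ (⊤ : Subgroup X).lowerCentralSeries 1) {i : ℕ}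
    (hi : 1 ≤ i) (hi' : i ≤ n - 3) (hv : v ∈ (⊤ : Subgroup X).lowerCentralSeries i)
    (hv' : v ∉ (⊤ : Subgroup X).lowerCentralSeries (i + 1)) :
    ⁅g, v⁆ ∉ (⊤ : Subgroup X).lowerCentralSeries (i + 2) := fun hc =>
  outside_K h h4 hp3 hAL hAi hK1 hKl hg hg1 hi hi' (h.mem_K_of_one hi hv hv' hc)

theorem comm_step {m : ℕ} (hm : 1 ≤ m) :
    ⁅(⊤ : Subgroup X).lowerCentralSeries m, A⁆ = (⊤ : Subgroup X).lowerCentralSeries (m + 1) := by
  obtain ⟨a, ha, ha1, -⟩ := exists_gen h hAL hAi
  haveI : A.Normal := normal_of_lcs_le hAL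
  refine le_antisymm (Subgroup.commutator_mono le_rfl le_top) fun g hg => ?_
  rcases le_or_gt (m + 1) (n - 2) with hkn | hkn
  swap
  · rw [h.eq_one (by omega) hg]
    exact one_mem _
  obtain ⟨v, hv, hv'⟩ := h.ne_step (i := m) hm (by omega)
  have hc : ⁅v, a⁆ ∈ ⁅(⊤ : Subgroup X).lowerCentralSeries m, A⁆ := commutator_mem_commutator hv ha
  refine h.lcs_le_of_mem (n - 2 - (m + 1)) (m + 1) (by omega) (by omega) _ hc ?_ ?_ hg
  · rw [← commutatorElement_inv a v]
    exact inv_mem (L_comm_x hv a)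
  · rw [← commutatorElement_inv a v]
    exact fun hi => exact_of_outside h h4 hp3 hAL hAi hK1 hKl ha ha1 hm (by omega) hv hv'
      (by simpa using inv_mem hi)

theorem lcs_eq : ∀ k, 1 ≤ k → A.lowerCentralSeries k = (⊤ : Subgroup X).lowerCentralSeries (k + 1) := by
  intro k hk
  induction k, hk using Nat.le_induction with
  | base =>
    obtain ⟨a, -, -, hgen⟩ := exists_gen h hAL hAi
    refine le_antisymm ?_ ?_
    · show ⁅A, A⁆ ≤ _
      rw [hgen]
      exact PowMax.cyc_sup_comm a 1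
    · rw [← comm_step h h4 hp3 hAL hAi hK1 hKl le_rfl]
      exact commutator_mono hAL le_rfl
  | succ k hk ih =>
    rw [Subgroup.lowerCentralSeries_succ, ih, comm_step h h4 hp3 hAL hAi hK1 hKl (by omega)]

omit [Finite X] hp h h4 hp3 hAL hAi hK1 hKl in
theorem lcs_invariant (B : Subgroup X) (k : ℕ) (α : MulAut B) (x : B) :
    α x ∈ (B.lowerCentralSeries k).subgroupOf B ↔ x ∈ (B.lowerCentralSeries k).subgroupOf B := by
  have e : (B.lowerCentralSeries k).subgroupOf B = (⊤ : Subgroup B).lowerCentralSeries k := by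
    rw [← Subgroup.top_subtype_lowerCentralSeries, subgroupOf, comap_map_eq_self_of_injective B.subtype_injective]
  have e2 : ((⊤ : Subgroup B).lowerCentralSeries k).map α.toMonoidHom = (⊤ : Subgroup B).lowerCentralSeries k := by
    rw [Subgroup.map_lowerCentralSeries, map_top_of_surjective _ α.surjective]
  rw [e]
  conv_lhs => rw [← e2]
  exact mem_map_iff_mem α.injective

omit [Finite X] hp h h4 hp3 hAL hAi hK1 hKl in
theorem subgroupOf_le_of_le (B : Subgroup X) {L L' : Subgroup X} (hL : L ≤ L') : L.subgroupOf B ≤ L'.subgroupOf B :=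
  fun _ hx => hL hx

omit [Finite X] hp h h4 hp3 hAL hAi hK1 hKl in
theorem card_subgroupOf {L B : Subgroup X} (hL : L ≤ B) : Nat.card (L.subgroupOf B) = Nat.card L :=
  Nat.card_congr (subgroupOfEquivOfLe hL).toEquiv

omit [Finite X] hp h h4 hp3 hAL hAi hK1 hKl in
theorem relIndex_of_card {Y : Type u} [Group Y] [Finite Y] {K H : Subgroup Y} (hle : K ≤ H) {c : ℕ}
    (hc : Nat.card H = Nat.card K * c) : K.relIndex H = c := by
  have h1 := (K.subgroupOf H).card_mul_index
  rw [Nat.card_congr (subgroupOfEquivOfLe hle).toEquiv, hc] at h1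
  exact Nat.eq_of_mul_eq_mul_left Nat.card_pos h1

omit h4 hp3 hK1 hKl in
theorem card_eq : Nat.card A = p ^ (n - 1) := by
  have h1 := A.card_mul_index
  rw [hAi, h.cardX, show n = n - 1 + 1 by have := h.three; omega, pow_succ] at h1
  exact Nat.eq_of_mul_eq_mul_right hp.out.pos h1

theorem chain_of_five (h5 : 5 ≤ n) :
    ∃ (D : ℕ → Subgroup A) (m : ℕ), Monotone D ∧ D 0 = ⊥ ∧ D m = ⊤ ∧
      (∀ i, ∀ α : MulAut A, ∀ x, α x ∈ D i ↔ x ∈ D i) ∧ ∀ i < m, (D i).relIndex (D (i + 1)) ≤ p := by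
  set D : ℕ → Subgroup A := fun i =>
    if i ≤ n - 2 then ((⊤ : Subgroup X).lowerCentralSeries (n - 1 - i)).subgroupOf A else ⊤ with hD
  have hLA : ∀ i, i ≤ n - 2 → (⊤ : Subgroup X).lowerCentralSeries (n - 1 - i) ≤ A := fun i hi =>
    (L_anti (by omega)).trans hAL
  refine ⟨D, n - 1, fun i j hij => ?_, ?_, ?_, fun i α x => ?_, fun i hi => le_of_eq ?_⟩
  · simp only [hD]
    split_ifs with h1 h2
    · exact comap_mono (L_anti (by omega))
    · exact le_top
    · omega
    · exact le_rfl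
  · simp only [hD, Nat.zero_le, if_true]
    refine eq_bot_iff.2 fun g hg => mem_bot.2 (Subtype.ext (h.eq_one (by omega) hg))
  · simp only [hD, show ¬ n - 1 ≤ n - 2 by omega, if_false]
  · simp only [hD]
    split_ifs with h1
    swap
    · simp
    rcases (by omega : i = n - 2 ∨ i ≤ n - 3) with rfl | h2
    · -- the derived subgroup, recognised by its action on the next layer
      rw [show n - 1 - (n - 2) = 1 by omega]
      have e2 := lcs_eq h h4 hp3 hAL hAi hK1 hKl 1 le_rfl
      have e3 := lcs_eq h h4 hp3 hAL hAi hK1 hKl 3 (by omega)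
      have key : ∀ y : A, y ∈ ((⊤ : Subgroup X).lowerCentralSeries 1).subgroupOf A ↔
          ∀ v : A, v ∈ (A.lowerCentralSeries 1).subgroupOf A → ⁅y, v⁆ ∈ (A.lowerCentralSeries 3).subgroupOf A := by
        intro y
        simp only [mem_subgroupOf, e2, e3]
        refine ⟨fun hy v hv => ?_, fun hy => ?_⟩
        · show ⁅(y : X), (v : X)⁆ ∈ _
          exact comm_of_mem hy hv (by omega)
        · by_contra hy1
          obtain ⟨v, hv, hv'⟩ := h.ne_step (i := 2) (by omega) (by omega)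
          exact exact_of_outside h h4 hp3 hAL hAi hK1 hKl y.2 hy1 (by omega) (by omega) hv hv'
            (hy ⟨v, hAL (L_anti (by omega) hv)⟩ hv)
      rw [key, key]
      constructor
      · intro hx v hv
        have h1 := hx (α v) ((lcs_invariant A 1 α v).2 hv)
        rwa [← map_commutatorElement, lcs_invariant] at h1
      · intro hx v hv
        have h1 : α.symm v ∈ _ := (lcs_invariant A 1 α.symm v).2 hv
        have h3 := (lcs_invariant A 3 α _).2 (hx _ h1)
        rwa [map_commutatorElement, MulEquiv.apply_symm_apply] at h3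
    · rw [show n - 1 - i = n - 2 - i + 1 by omega,
        ← lcs_eq h h4 hp3 hAL hAi hK1 hKl (n - 2 - i) (by omega)]
      exact lcs_invariant A _ α x
  · simp only [hD]
    rcases (by omega : i + 1 ≤ n - 2 ∨ i = n - 2) with h1 | rfl
    · rw [if_pos (by omega), if_pos h1]
      refine relIndex_of_card (subgroupOf_le_of_le A (L_anti (show n - 1 - (i + 1) ≤ n - 1 - i by omega))) ?_
      rw [card_subgroupOf (hLA i (by omega)), card_subgroupOf (hLA (i + 1) h1), h.cardL (by omega),
        h.cardL (by omega), ← pow_succ]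
      congr 1
      omega
    · rw [if_pos le_rfl, if_neg (by omega)]
      refine relIndex_of_card le_top ?_
      rw [card_top, card_eq h hAL hAi, card_subgroupOf (hLA _ le_rfl), h.cardL (by omega), ← pow_succ]
      congr 1
      omega

theorem chain_of_four (hn4 : n = 4) :
    (∃ (D : ℕ → Subgroup A) (m : ℕ), Monotone D ∧ D 0 = ⊥ ∧ D m = ⊤ ∧
      (∀ i, ∀ α : MulAut A, ∀ x, α x ∈ D i ↔ x ∈ D i) ∧ ∀ i < m, (D i).relIndex (D (i + 1)) ≤ p) ∨
    (n = 4 ∧ Nat.card A = p ^ 3 ∧ Cfsg.IsExtraspecial p A ∧ Monoid.exponent A = p) := by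
  have hcA : Nat.card A = p ^ 3 := by rw [card_eq h hAL hAi, hn4]
  have e1 := lcs_eq h h4 hp3 hAL hAi hK1 hKl
  obtain ⟨a, ha, ha1, -⟩ := exists_gen h hAL hAi
  obtain ⟨v, hv, hv'⟩ := h.ne_step (i := 1) le_rfl (by omega)
  have hav : (⟨a, ha⟩ : A) * ⟨v, hAL hv⟩ ≠ ⟨v, hAL hv⟩ * ⟨a, ha⟩ := fun hc => by
    refine exact_of_outside h h4 hp3 hAL hAi hK1 hKl ha ha1 le_rfl (by omega) hv hv' ?_
    rw [commutatorElement_eq_one_iff_mul_comm.2 (congrArg Subtype.val hc)]
    exact one_mem _
  by_cases hexp : ∀ g : A, g ^ p = 1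
  · refine Or.inr ⟨hn4, hcA, isExtraspecial_of_card hcA ⟨_, _, hav⟩, ?_⟩
    refine ((Nat.dvd_prime hp.out).1 (Monoid.exponent_dvd_iff_forall_pow_eq_one.2 hexp)).resolve_left ?_
    intro he
    haveI := Monoid.exp_eq_one_iff.1 he
    exact hav (Subsingleton.elim _ _)
  push Not at hexp
  obtain ⟨g₀, hg₀⟩ := hexp
  set L2 := (⊤ : Subgroup X).lowerCentralSeries 2 with hL2
  have hL2A : L2 ≤ A := (L_anti (by omega)).trans hAL
  have hcL2 : Nat.card L2 = p := by rw [hL2, h.cardL (by omega), hn4, pow_one]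
  have hpowL2 : ∀ g ∈ A, g ^ p ∈ L2 := by
    intro g hg
    by_cases hg1 : g ∈ (⊤ : Subgroup X).lowerCentralSeries 1
    · have h1 := pow_index_mem (L2.subgroupOf ((⊤ : Subgroup X).lowerCentralSeries 1)) ⟨g, hg1⟩
      rw [show (L2.subgroupOf ((⊤ : Subgroup X).lowerCentralSeries 1)).index = p from
        relIndex_of_card (L_anti (by omega)) (by
          rw [hcL2, h.cardL le_rfl, hn4]; ring)] at h1
      exact h1
    · have hmx : MX p n g := h.mx h4 hg1 fun i h1 h2 => outside_K h h4 hp3 hAL hAi hK1 hKl hg hg1 h1 h2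
      by_contra hc
      refine exact_of_outside h h4 hp3 hAL hAi hK1 hKl hg hg1 le_rfl (by omega) (hmx.pow_L1 g) hc ?_
      rw [commutatorElement_eq_one_iff_mul_comm.2 (Commute.self_pow g p).eq]
      exact one_mem _
  haveI : A.Normal := normal_of_lcs_le hAL
  have hmul : ∀ x y : A, (x * y) ^ p = x ^ p * y ^ p := by
    intro x y
    have h1 := Graded.pow_congr (p := p) A ⊥ (fun g hg => ?_) (fun c hc => ?_) x.2 y.2
    · rw [mem_bot, inv_mul_eq_one] at h1
      exact Subtype.ext h1.symm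
    · rw [e1 (p - 1) (by omega)] at hg
      exact mem_bot.2 (h.eq_one (by omega) hg)
    · rw [show ⁅A, A⁆ = A.lowerCentralSeries 1 from rfl, e1 1 le_rfl] at hc
      have h1 := pow_card_eq_one' (x := (⟨c, hc⟩ : L2))
      rw [hcL2] at h1
      exact mem_bot.2 (congrArg Subtype.val h1)
  let φ : A →* A := MonoidHom.mk' (fun x => x ^ p) hmul
  have hrange : φ.range ≤ L2.subgroupOf A := by
    rintro _ ⟨x, rfl⟩
    exact hpowL2 x x.2
  have hcr : Nat.card φ.range = p := by
    have h2 : Nat.card φ.range ∣ p := by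
      have h3 := card_dvd_of_le hrange
      rwa [card_subgroupOf hL2A, hcL2] at h3
    rcases (Nat.dvd_prime hp.out).1 h2 with h1 | h1
    · exact absurd (mem_bot.1 (card_eq_one.1 h1 ▸ (⟨g₀, rfl⟩ : g₀ ^ p ∈ φ.range))) hg₀
    · exact h1
  have hck : Nat.card φ.ker = p ^ 2 := by
    have h1 := φ.ker.card_mul_index
    rw [Subgroup.index_ker, hcr, hcA] at h1
    exact Nat.eq_of_mul_eq_mul_right hp.out.pos (h1.trans (by ring))
  have hLk : L2.subgroupOf A ≤ φ.ker := fun x hx => by
    have h1 := pow_card_eq_one' (x := (⟨(x : X), hx⟩ : L2))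
    rw [hcL2] at h1
    exact Subtype.ext (congrArg Subtype.val h1 : ((x : X)) ^ p = 1)
  set D : ℕ → Subgroup A := fun i =>
    if i = 0 then ⊥ else if i = 1 then L2.subgroupOf A else if i = 2 then φ.ker else ⊤ with hD
  refine Or.inl ⟨D, 3, monotone_nat_of_le_succ fun i => ?_, rfl, rfl, fun i α x => ?_, fun i hi => le_of_eq ?_⟩
  · match i with
    | 0 => exact bot_le
    | 1 => exact hLk
    | k + 2 => exact le_top
  · match i with
    | 0 => exact map_eq_one_iff α α.injective
    | 1 =>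
      show α x ∈ L2.subgroupOf A ↔ x ∈ L2.subgroupOf A
      rw [hL2, ← e1 1 le_rfl]
      exact lcs_invariant A 1 α x
    | 2 =>
      show (α x) ^ p = 1 ↔ x ^ p = 1
      rw [← map_pow]
      exact map_eq_one_iff α α.injective
    | k + 3 => exact ⟨fun _ => mem_top _, fun _ => mem_top _⟩
  · refine relIndex_of_card ?_ ?_
    · match i with
      | 0 => exact bot_le
      | 1 => exact hLk
      | k + 2 => exact le_top
    · rcases (by omega : i = 0 ∨ i = 1 ∨ i = 2) with rfl | rfl | rfl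
      · show Nat.card (L2.subgroupOf A) = Nat.card (⊥ : Subgroup A) * p
        rw [card_subgroupOf hL2A, hcL2, card_bot, one_mul]
      · show Nat.card φ.ker = Nat.card (L2.subgroupOf A) * p
        rw [card_subgroupOf hL2A, hcL2, hck, sq]
      · show Nat.card (⊤ : Subgroup A) = Nat.card φ.ker * p
        rw [card_top, hck, hcA]
        ring

/-- A chain of characteristic subgroups with steps of order `p`, unless the subgroup is extraspecial of
exponent `p`. -/
theorem exists_chain :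
    (∃ (D : ℕ → Subgroup A) (m : ℕ), Monotone D ∧ D 0 = ⊥ ∧ D m = ⊤ ∧
      (∀ i, ∀ α : MulAut A, ∀ x, α x ∈ D i ↔ x ∈ D i) ∧ ∀ i < m, (D i).relIndex (D (i + 1)) ≤ p) ∨
    (n = 4 ∧ Nat.card A = p ^ 3 ∧ Cfsg.IsExtraspecial p A ∧ Monoid.exponent A = p) := by
  rcases (by omega : n = 4 ∨ 5 ≤ n) with h1 | h1
  · exact chain_of_four h h4 hp3 hAL hAi hK1 hKl h1
  · exact Or.inl (chain_of_five h h4 hp3 hAL hAi hK1 hKl h1)

end Index

end Cfsg.Agent.MaxClassNormal
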