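import Cfsg.Agent.MaxClassNormal.Series
import Cfsg.Agent.RegUnip.Main
import Cfsg.Agent.RankThreeEss.PairA
import Cfsg.Agent.FusSys.Saturation
import Cfsg.Agent.FusSys.Alperin
import Cfsg.Agent.FusSys.EssentialChain

/-!
A normal essential subgroup of a `p`-group of maximal class is not inside the derived subgroup.
-/

set_option autoImplicit false

namespace Cfsg.Agent.MaxClassNormal

open Subgroup Matrix
open scoped commutatorElement
open Cfsg Cfsg.FusionSystem Cfsg.Agent.FusSys
open Cfsg.Agent.MaxClass.TwoStep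
open Cfsg.Agent.RegUnip

universe u

variable {p : ℕ} [hp : Fact p.Prime] {Ω : Type u} [Group Ω] {S : Subgroup Ω} [Finite S]
  {F : FusionSystem S} {E : Subgroup Ω}

omit [Finite S] in
theorem le_normalizer_of_normal (hES : E ≤ S) [hEn : (E.subgroupOf S).Normal] {g : Ω} (hg : g ∈ S) :
    g ∈ Subgroup.normalizer (E : Set Ω) :=
  (Subgroup.normal_subgroupOf_iff_le_normalizer hES).1 hEn hg

/-- The map to the outer automorphisms is onto a Sylow subgroup, with kernel the essential subgroup. -/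
theorem exists_outer (hS : IsPGroup p S) (hF : F.IsSaturated p) (hE : F.IsEssential p E)
    [(E.subgroupOf S).Normal] [(innIn F E).Normal] :
    ∃ (θ : S →* F.autGroup E) (T : Sylow p (F.autGroup E ⧸ innIn F E))
      (H : Subgroup (F.autGroup E ⧸ innIn F E)),
      SEH T H ∧ ((QuotientGroup.mk' (innIn F E)).comp θ).range = T ∧
      ((QuotientGroup.mk' (innIn F E)).comp θ).ker = E.subgroupOf S ∧
      ∀ (g : S) (a : E), ((((θ g : MulAut E)) a : E) : Ω) = g * a * (g : Ω)⁻¹ := by
  obtain ⟨hc, hfn, hn, E0, hE0⟩ := id hE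
  have hES := hc.1
  haveI : Finite E := finite_of_le hES
  haveI : Finite (MulAut E) := Finite.of_injective _ MulEquiv.toEquiv_injective
  obtain ⟨-, R, hR⟩ := fullyAutomized_of_fullyNormalized hS hF hfn
  have hmks := QuotientGroup.mk'_surjective (innIn F E)
  set T := R.mapSurjective hmks with hT
  obtain ⟨H, hH, hNH⟩ := exists_proper_of_stronglyPEmbedded hE0 T
  have hgn : ∀ g : S, (g : Ω) ∈ Subgroup.normalizer (E : Set Ω) := fun g => le_normalizer_of_normal hES g.2
  let θ : S →* F.autGroup E :=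
    (E.normalizerMonoidHom.comp (Subgroup.inclusion (fun g hg => hgn ⟨g, hg⟩))).codRestrict _ (fun y =>
      autInducedBy_le_autGroup hES (mem_autInducedBy_iff.2
        ⟨y, y.2, hgn y, fun a ha => apl_normalizerMonoidHom ⟨(y : Ω), hgn y⟩ ha⟩))
  have hθR : θ.range = R := by
    refine le_antisymm ?_ fun γ hγ => ?_
    · rintro _ ⟨y, rfl⟩
      rw [hR, mem_subgroupOf]
      exact mem_autInducedBy_iff.2
        ⟨y, y.2, hgn y, fun a ha => apl_normalizerMonoidHom ⟨(y : Ω), hgn y⟩ ha⟩
    · rw [hR, mem_subgroupOf, mem_autInducedBy_iff] at hγ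
      obtain ⟨g, hg, hgn', hgx⟩ := hγ
      exact ⟨⟨g, hg⟩, Subtype.ext (apl_ext fun a ha => by
        rw [hgx a ha]; exact apl_normalizerMonoidHom ⟨g, hgn'⟩ ha)⟩
  refine ⟨θ, T, H, ⟨hH, T.ne_bot_of_dvd_card hE0.1, hNH⟩, ?_, ?_, fun g a => ?_⟩
  · rw [MonoidHom.range_comp, hθR]; rfl
  · ext y
    rw [MonoidHom.mem_ker, MonoidHom.comp_apply, QuotientGroup.mk'_apply,
      QuotientGroup.eq_one_iff, mem_subgroupOf, mem_subgroupOf]
    refine ⟨fun h => mem_of_conj_mem_inn (centric_self hc) hES y.2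
      (fun a ha => apl_normalizerMonoidHom ⟨(y : Ω), hgn y⟩ ha) h, fun h => ?_⟩
    rw [inn_eq_autInducedBy, mem_autInducedBy_iff]
    exact ⟨y, h, hgn y, fun a ha => apl_normalizerMonoidHom ⟨(y : Ω), hgn y⟩ ha⟩
  · rw [← apl_coe]
    exact apl_normalizerMonoidHom ⟨(g : Ω), hgn g⟩ a.2

/-- The faithful action of the outer automorphisms on the Frattini quotient. -/
theorem exists_faithful (hS : IsPGroup p S) (hE : F.IsEssential p E) [(innIn F E).Normal] {d : ℕ}
    (π : E → (Fin d → ZMod p)) (hsurj : Function.Surjective π) (hmul : ∀ a b, π (a * b) = π a + π b)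
    (hker : ∀ a, π a = 0 ↔ a ∈ frattini E) :
    ∃ ρ : (F.autGroup E ⧸ innIn F E) →* Matrix (Fin d) (Fin d) (ZMod p),
      Function.Injective ρ ∧
      ∀ (α : F.autGroup E) (a : E), ρ (α : F.autGroup E ⧸ innIn F E) *ᵥ π a = π ((α : MulAut E) a) := by
  obtain ⟨hc, hfn, hn, E0, hE0⟩ := id hE
  haveI : Finite E := finite_of_le hc.1
  haveI : Finite (MulAut E) := Finite.of_injective _ MulEquiv.toEquiv_injective
  obtain ⟨R, hR⟩ := exists_rep π hsurj hmul hker
  set j := R.comp (F.autGroup E).subtype with hj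
  have hone : π 1 = 0 := (hker 1).2 (one_mem _)
  have hinv : ∀ a, π a⁻¹ = -π a := fun a =>
    eq_neg_of_add_eq_zero_left (by rw [← hmul, inv_mul_cancel, hone])
  have hext : ∀ α : MulAut E, (∀ a, π (α a) = π a) → R α = 1 := fun α hα => by
    refine Matrix.ext_of_mulVec_single fun l => ?_
    obtain ⟨a, ha⟩ := hsurj (Pi.single l 1)
    rw [← ha, hR, hα, Matrix.one_mulVec]
  have hinn : innIn F E ≤ j.ker := fun α hα => by
    obtain ⟨g, hg⟩ := mem_subgroupOf.1 hα
    refine hext _ fun a => ?_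
    rw [show (F.autGroup E).subtype α = MulAut.conj g from hg.symm, MulAut.conj_apply, hmul, hmul, hinv]
    abel
  refine ⟨QuotientGroup.lift (innIn F E) j hinn, ?_, fun α a => hR _ a⟩
  rw [← MonoidHom.ker_eq_bot_iff, eq_bot_iff, ← pCore_eq_bot_of_stronglyPEmbedded hE0]
  refine Core.le_pCore ?_
  have hEp := hS.to_le hc.1
  obtain ⟨m, hm⟩ := IsPGroup.iff_card.1 hEp
  obtain ⟨r, -, hr⟩ := (Nat.dvd_prime_pow hp.out).1 (hm ▸ (frattini E).index_dvd_card)
  have hK : IsPGroup p j.ker := by
    have hd := FGS.card_dvd_of_trivial_on_frattini_quotient hm hr (j.ker.map (F.autGroup E).subtype) (by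
      rintro _ ⟨α, hα, rfl⟩ a
      rw [← hker, hmul, hinv, ← hR, show R ((F.autGroup E).subtype α) = 1 from hα, Matrix.one_mulVec,
        add_neg_cancel])
    rw [card_map_of_injective (F.autGroup E).subtype_injective] at hd
    obtain ⟨i, -, hi⟩ := (Nat.dvd_prime_pow hp.out).1 hd
    exact IsPGroup.of_card hi
  refine (hK.map (QuotientGroup.mk' (innIn F E))).to_le ?_
  intro y hy
  obtain ⟨α, rfl⟩ := QuotientGroup.mk'_surjective (innIn F E) y
  exact ⟨α, hy, rfl⟩

theorem not_lcs (hp5 : 5 ≤ p) (hS : IsPGroup p S) {n : ℕ} (h : MCl p n S) (h4 : 4 ≤ n)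
    (hF : F.IsSaturated p) (hE : F.IsEssential p E) [(E.subgroupOf S).Normal] {r : ℕ} (hr : 1 ≤ r)
    (hr' : r ≤ n - 2) (hA : E.subgroupOf S = (⊤ : Subgroup S).lowerCentralSeries r) : False := by
  obtain ⟨hc, hfn, hn, -⟩ := id hE
  haveI : (innIn F E).Normal := hn
  have hES := hc.1
  haveI : Finite E := finite_of_le hES
  haveI : Finite (MulAut E) := Finite.of_injective _ MulEquiv.toEquiv_injective
  set A := E.subgroupOf S with hAdef
  let e : A ≃* E := subgroupOfEquivOfLe hES
  obtain ⟨d, π, b, s, hdp, hsurj, hmul, hker, hb, hsM, hlow, hadj, hshape⟩ :=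
    series_data h h4 (by omega) hr hr' hA
  obtain ⟨θ, T, H, hSEH, hrange, hθker, hθ⟩ := exists_outer hS hF hE
  have hfrat : ∀ a : E, a ∈ frattini E ↔ e.symm a ∈ frattini A := fun a => by
    rw [← RankThreeEss.frattini_map_iso e, mem_map_equiv]
  obtain ⟨ρ, hinj, hρ⟩ := exists_faithful hS hE (fun a => π (e.symm a))
    (fun v => by obtain ⟨a, rfl⟩ := hsurj v; exact ⟨e a, congrArg π (e.symm_apply_apply a)⟩)
    (fun a c => by rw [map_mul, hmul]) (fun a => by rw [hker, hfrat])
  set q := (QuotientGroup.mk' (innIn F E)).comp θ with hq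
  have hρM : ∀ g : S, ρ (q g) = conjMat π b g := fun g => by
    refine Matrix.ext_of_mulVec_single fun l => ?_
    have h1 := hρ (θ g) (e (b l))
    simp only [e.symm_apply_apply, hb] at h1
    refine h1.trans ?_
    rw [Matrix.mulVec_single_one]
    have h2 : e.symm ((θ g : MulAut E) (e (b l))) = MulAut.conjNormal g (b l) := by
      refine Subtype.ext (Subtype.ext ?_)
      rw [MulAut.conjNormal_apply, Subgroup.coe_mul, Subgroup.coe_mul, Subgroup.coe_inv]
      exact hθ g (e (b l))
    rw [h2]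
    rfl
  have hqmem : ∀ g, q g ∈ (T : Subgroup (F.autGroup E ⧸ innIn F E)) := fun g => hrange ▸ ⟨g, rfl⟩
  have hqsurj : ∀ t ∈ (T : Subgroup (F.autGroup E ⧸ innIn F E)), ∃ g, q g = t := fun t ht => by
    rw [← hrange] at ht
    exact ht
  have hcard : Nat.card T = p ^ (r + 1) := by
    show Nat.card (T : Subgroup (F.autGroup E ⧸ innIn F E)) = _
    rw [← hrange, ← Subgroup.index_ker, hθker]
    change A.index = _
    rw [hA]
    have h1 := ((⊤ : Subgroup S).lowerCentralSeries r).card_mul_index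
    rw [h.cardL hr, h.cardX, show n = (n - 1 - r) + (r + 1) by omega, pow_add] at h1
    exact Nat.eq_of_mul_eq_mul_left (pow_pos hp.out.pos _) (h1.trans (by congr 2; omega))
  rcases Nat.lt_or_ge d 2 with hd | hd
  · refine hSEH.ne (eq_bot_iff.2 fun t ht => mem_bot.2 (hinj ?_))
    obtain ⟨g, rfl⟩ := hqsurj t ht
    rw [map_one, hρM]
    exact sub_eq_zero.1 (Matrix.ext fun i l => (hlow g).apply_eq_zero (by simp only [fdeg]; omega))
  refine core_false hp5 hinj hSEH hd hdp (hqmem s) ((hρM s).trans hsM) ?_ ?_ ?_ ?_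
  · rw [hcard]
    exact Nat.pow_le_pow_right hp.out.pos (by omega)
  · intro t ht
    obtain ⟨g, rfl⟩ := hqsurj t ht
    rw [hρM]
    exact hlow g
  · intro t ht
    obtain ⟨g, rfl⟩ := hqsurj t ht
    rw [hρM]
    exact hadj g
  · rcases hshape with rfl | ⟨w, hw, hws, hww⟩
    · exact Or.inl hcard
    refine Or.inr ⟨q w, hqmem w, ?_, ?_, ?_⟩
    · rw [← map_commutatorElement]
      exact fun hc' => hw (hθker.le (MonoidHom.mem_ker.2 hc'))
    · refine commutatorElement_eq_one_iff_commute.1 ?_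
      rw [← map_commutatorElement, ← map_commutatorElement, ← MonoidHom.mem_ker, hθker]
      exact hws
    · refine commutatorElement_eq_one_iff_commute.1 ?_
      rw [← map_commutatorElement, ← map_commutatorElement, ← MonoidHom.mem_ker, hθker]
      exact hww

/-- An essential normal subgroup of a group of maximal class has index `p`. -/
theorem index_eq (hp5 : 5 ≤ p) (hS : IsPGroup p S) {n : ℕ} (h : MCl p n S) (h4 : 4 ≤ n)
    (hF : F.IsSaturated p) (hE : F.IsEssential p E) [(E.subgroupOf S).Normal] :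
    (⊤ : Subgroup S).lowerCentralSeries 1 ≤ E.subgroupOf S ∧ (E.subgroupOf S).index = p := by
  obtain ⟨hc, hfn, hn, -⟩ := id hE
  haveI : (innIn F E).Normal := hn
  haveI : Finite E := finite_of_le hc.1
  haveI : Finite (MulAut E) := Finite.of_injective _ MulEquiv.toEquiv_injective
  have hne : E.subgroupOf S ≠ ⊤ := by
    intro htop
    obtain ⟨θ, T, H, hSEH, hrange, hθker, -⟩ := exists_outer hS hF hE
    refine hSEH.ne (eq_bot_iff.2 fun t ht => mem_bot.2 ?_)
    rw [← hrange] at ht
    obtain ⟨g, rfl⟩ := ht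
    exact MonoidHom.mem_ker.1 (hθker ▸ htop ▸ mem_top g)
  by_cases hle : E.subgroupOf S ≤ (⊤ : Subgroup S).lowerCentralSeries 1
  · obtain ⟨r, hr1, hr2, hr⟩ := eq_lcs_of_le h hle
    exfalso
    rcases (by omega : r ≤ n - 2 ∨ r = n - 1) with h1 | rfl
    · exact not_lcs hp5 hS h h4 hF hE hr1 h1 hr
    · obtain ⟨a, ha, ha'⟩ := h.ne_step (i := 1) le_rfl (by omega)
      have hE1 : E = ⊥ := (Subgroup.eq_bot_iff_forall E).2 fun x hx => by
        have h2 : (⟨x, hc.1 hx⟩ : S) ∈ E.subgroupOf S := hx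
        rw [hr] at h2
        exact congrArg Subtype.val (h.eq_one le_rfl h2)
      have h3 : (a : Ω) ∈ centralizerIn S E := ⟨a.2, Subgroup.mem_centralizer_iff.2 fun x hx => by
        rw [hE1] at hx
        rw [mem_bot.1 hx, one_mul, mul_one]⟩
      have h4' := centric_self hc h3
      rw [hE1, mem_bot] at h4'
      exact ha' (by rw [show a = 1 from Subtype.ext h4']; exact one_mem _)
  · obtain ⟨a, ha, ha1⟩ := SetLike.not_le_iff_exists.1 hle
    exact index_of_outside h hne ha ha1

/-- An essential normal subgroup of index `p` other than the two centralizers. -/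
theorem extraspecial_case (hp3 : 3 ≤ p) (hS : IsPGroup p S) {n : ℕ} (h : MCl p n S) (h4 : 4 ≤ n)
    (hE : F.IsEssential p E) (hAL : (⊤ : Subgroup S).lowerCentralSeries 1 ≤ E.subgroupOf S)
    (hAi : (E.subgroupOf S).index = p) (hK1 : E.subgroupOf S ≠ K S 1)
    (hKl : E.subgroupOf S ≠ K S (n - 3)) :
    n = 4 ∧ Nat.card E = p ^ 3 ∧ Cfsg.IsExtraspecial p E ∧ Monoid.exponent E = p := by
  have hES := hE.1.1
  haveI : Finite E := finite_of_le hES
  let e : E.subgroupOf S ≃* E := subgroupOfEquivOfLe hES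
  rcases exists_chain h h4 hp3 hAL hAi hK1 hKl with ⟨D, m, hD, hbot, htop, hinv, hstep⟩ | ⟨h1, h2, h3, h5⟩
  · exfalso
    refine not_essential_of_chain hS (D := fun i => (D i).comap e.symm.toMonoidHom)
      (fun i j hij => comap_mono (hD hij)) (n := m) (by simp only [htop, comap_top]) ?_ ?_ ?_ hE
    · simp only [hbot, MonoidHom.comap_bot]
      exact (MonoidHom.ker_eq_bot_iff _).2 e.symm.injective
    · intro α _ i _ x
      show e.symm (α x) ∈ D i ↔ e.symm x ∈ D i
      have := hinv i ((MulAut.congr e.symm) α) (e.symm x)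
      rwa [show (MulAut.congr e.symm) α (e.symm x) = e.symm (α x) by simp [MulAut.congr]] at this
    · intro i hi
      rw [relIndex_comap, map_comap_eq_self_of_surjective e.symm.surjective]
      exact hstep i hi
  · have hcE : Nat.card E = p ^ 3 := by rw [← h2]; exact (Nat.card_congr e.toEquiv).symm
    refine ⟨h1, hcE, isExtraspecial_of_card hcE ?_, ?_⟩
    · by_contra! hcomm
      have h6 : commutator (E.subgroupOf S) = ⊥ := by
        rw [_root_.commutator_def, eq_bot_iff, commutator_le]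
        intro a _ b _
        exact mem_bot.2 (commutatorElement_eq_one_iff_mul_comm.2 (e.injective (by rw [map_mul, map_mul, hcomm])))
      have h7 := h3.2
      rw [← h3.1.2.2, h6, card_bot] at h7
      exact hp.out.ne_one h7.symm
    · rw [← Monoid.exponent_eq_of_mulEquiv e]
      exact h5

end Cfsg.Agent.MaxClassNormal
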