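import Cfsg.Agent.MaxClassNormal.Normal
import Cfsg.Agent.RegUnip.Core
import Cfsg.Agent.FGS.AutFrattini

/-!
The conjugation action of a `p`-group of maximal class on the Frattini quotient of a term of its lower
central series: a regular unipotent element and a constant adjacent entry.
-/

set_option autoImplicit false

namespace Cfsg.Agent.MaxClassNormal

open Subgroup Matrix
open scoped commutatorElement
open Cfsg.Agent.MaxClass Cfsg.Agent.MaxClass.TwoStep
open Cfsg.Agent.MaxClass.Graded (L_anti L_comm L_comm_x MX)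
open Cfsg.Agent.RegUnip

universe u

variable {X : Type u} [Group X] [Finite X] {p n : ℕ} [hp : Fact p.Prime]

/-- The Frattini subgroup of a term of the lower central series. -/
theorem exists_frattini_eq (h : MCl p n X) (h4 : 4 ≤ n) (hp3 : 3 ≤ p) {r : ℕ} (hr : 1 ≤ r) (hr' : r ≤ n - 2) :
    ∃ d, 1 ≤ d ∧ d ≤ p - 1 ∧ r + d ≤ n - 1 ∧
      (frattini ↥((⊤ : Subgroup X).lowerCentralSeries r)).map ((⊤ : Subgroup X).lowerCentralSeries r).subtype =
        (⊤ : Subgroup X).lowerCentralSeries (r + d) := by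
  set A := (⊤ : Subgroup X).lowerCentralSeries r with hA
  set P := (frattini A).map A.subtype with hP
  haveI : A.Normal := inferInstance
  haveI : P.Normal := by rw [hP]; infer_instance
  have hPA : P ≤ A := map_subtype_le _
  obtain ⟨j, hj1, hj2, hj⟩ := eq_lcs_of_le h (hPA.trans (L_anti hr))
  haveI : Nontrivial A := by
    obtain ⟨a, ha, ha'⟩ := h.ne_step hr hr'
    exact ⟨⟨a, ha⟩, 1, fun e => ha' (by rw [show a = 1 from congrArg Subtype.val e]; exact one_mem _)⟩
  have hne : frattini A ≠ ⊤ := fun e => by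
    have h1 : (⊥ : Subgroup A) = ⊤ := Core.eq_top_of_sup_frattini (K := ⊥) le_rfl (by rw [e, sup_top_eq])
    exact bot_ne_top h1
  have hrj : r < j := by
    by_contra hle
    refine hne (eq_top_iff' _ |>.2 fun a => ?_)
    have h1 : (a : X) ∈ P := hj ▸ L_anti (not_lt.1 hle) a.2
    exact (mem_map_iff_mem A.subtype_injective).1 h1
  obtain ⟨s, hmx⟩ := h.exists_mx hp3 h4
  refine ⟨j - r, by omega, ?_, by omega, by rw [show r + (j - r) = j by omega]; exact hj⟩
  by_contra hd
  obtain ⟨u, hu, hu'⟩ := h.ne_step hr hr'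
  have h1 : u ^ p ∈ P := ⟨(⟨u, hu⟩ : A) ^ p, Core.pow_mem_frattini (h.pgrp.to_subgroup A) _, rfl⟩
  rw [hj] at h1
  exact hmx.pow_exact hp3 r hr (by omega) u hu hu' (L_anti (by omega) h1)

/-- Coordinates on the Frattini quotient along exact elements. -/
theorem exists_coords (h : MCl p n X) {r d : ℕ} (hr : 1 ≤ r) (hd : r + d ≤ n - 1)
    (hΦ : (frattini ↥((⊤ : Subgroup X).lowerCentralSeries r)).map
      ((⊤ : Subgroup X).lowerCentralSeries r).subtype = (⊤ : Subgroup X).lowerCentralSeries (r + d))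
    (e : ℕ → X) (he : ∀ a, a < d → e a ∈ (⊤ : Subgroup X).lowerCentralSeries (r + a))
    (he' : ∀ a, a < d → e a ∉ (⊤ : Subgroup X).lowerCentralSeries (r + a + 1)) :
    ∃ π : ↥((⊤ : Subgroup X).lowerCentralSeries r) → (Fin d → ZMod p),
      Function.Surjective π ∧ (∀ a b, π (a * b) = π a + π b) ∧
      (∀ a, π a = 0 ↔ a ∈ frattini ↥((⊤ : Subgroup X).lowerCentralSeries r)) ∧
      (∀ (l : Fin d) (hl : e l ∈ (⊤ : Subgroup X).lowerCentralSeries r), π ⟨e l, hl⟩ = Pi.single l 1) ∧
      ∀ a, a ≤ d → ∀ g : ↥((⊤ : Subgroup X).lowerCentralSeries r),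
        (g : X) ∈ (⊤ : Subgroup X).lowerCentralSeries (r + a) → ∀ i : Fin d, (i : ℕ) < a → π g i = 0 := by
  classical
  set A := (⊤ : Subgroup X).lowerCentralSeries r with hA
  have hmem : ∀ x : A, x ∈ frattini A ↔ (x : X) ∈ (⊤ : Subgroup X).lowerCentralSeries (r + d) := fun x => by
    rw [← hΦ]; exact (mem_map_iff_mem A.subtype_injective).symm
  obtain ⟨m, hm⟩ := IsPGroup.iff_card.1 (h.pgrp.to_subgroup A)
  obtain ⟨hcomm, hexp⟩ := FGS.frattini_quotient_props hm
  letI cg : CommGroup (A ⧸ frattini A) :=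
    { (inferInstance : Group (A ⧸ frattini A)) with mul_comm := hcomm }
  letI md : Module (ZMod p) (Additive (A ⧸ frattini A)) :=
    AddCommGroup.zmodModule (n := p) (G := Additive (A ⧸ frattini A)) fun v => hexp (Additive.toMul v)
  let mk : A → Additive (A ⧸ frattini A) := fun a => Additive.ofMul ((a : A) : A ⧸ frattini A)
  have mk_mul : ∀ a b, mk (a * b) = mk a + mk b := fun a b => rfl
  have mk_zero : ∀ a, mk a = 0 ↔ a ∈ frattini A := fun a => QuotientGroup.eq_one_iff a
  have heA : ∀ a, a < d → e a ∈ A := fun a ha => L_anti (by omega) (he a ha)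
  let ψ : (Fin d → ZMod p) →ₗ[ZMod p] Additive (A ⧸ frattini A) :=
    Fintype.linearCombination (ZMod p) (fun a : Fin d => mk ⟨e a, heA a a.2⟩)
  have hψ1 : ∀ a : Fin d, ψ (Pi.single a 1) = mk ⟨e a, heA a a.2⟩ := fun a => by
    simp [ψ, Fintype.linearCombination_apply_single]
  -- spanning, with the filtration
  have key : ∀ k a, a + k = d → ∀ g : A, (g : X) ∈ (⊤ : Subgroup X).lowerCentralSeries (r + a) →
      ∃ c : Fin d → ZMod p, (∀ i : Fin d, (i : ℕ) < a → c i = 0) ∧ ψ c = mk g := by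
    intro k
    induction k with
    | zero =>
      intro a ha g hg
      refine ⟨0, fun _ _ => rfl, ?_⟩
      rw [map_zero]
      exact ((mk_zero g).2 ((hmem g).2 (by rwa [show r + d = r + a by omega]))).symm
    | succ k ih =>
      intro a ha g hg
      obtain ⟨t, v, hv, hgv⟩ := h.decomp (i := r + a) (by omega) (he a (by omega)) (he' a (by omega)) hg
      have hvA : v ∈ A := L_anti (by omega) hv
      obtain ⟨c, hc, hc'⟩ := ih (a + 1) (by omega) ⟨v, hvA⟩ (by rwa [← add_assoc])
      refine ⟨(t : ZMod p) • Pi.single (⟨a, by omega⟩ : Fin d) 1 + c, fun i hi => ?_, ?_⟩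
      · rw [Pi.add_apply, Pi.smul_apply, Pi.single_eq_of_ne (fun e => by subst e; exact lt_irrefl _ hi),
          smul_zero, zero_add, hc i (by omega)]
      · rw [map_add, map_smul, hψ1, hc', Int.cast_smul_eq_zsmul]
        show t • mk _ + mk _ = mk g
        have hg' : g = (⟨e a, heA a (by omega)⟩ : A) ^ t * ⟨v, hvA⟩ := Subtype.ext (by simpa using hgv)
        rw [hg', mk_mul]
        congr 1
  have hsurj : Function.Surjective ψ := fun v => by
    obtain ⟨g, hg⟩ := QuotientGroup.mk_surjective v.toMul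
    obtain ⟨c, -, hc⟩ := key d 0 (by omega) g (by simp)
    exact ⟨c, hc.trans (congrArg Additive.ofMul hg)⟩
  have hcardV : Nat.card (Additive (A ⧸ frattini A)) = p ^ d := by
    rw [Nat.card_congr (Additive.ofMul (α := A ⧸ frattini A)).symm, ← index_eq_card]
    have h1 := (frattini A).card_mul_index
    have h2 : Nat.card (frattini A) = p ^ (n - 1 - (r + d)) := by
      rw [← h.cardL (by omega), ← hΦ, card_map_of_injective A.subtype_injective]
    rw [h2, h.cardL hr, show n - 1 - r = (n - 1 - (r + d)) + d by omega, pow_add] at h1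
    exact Nat.eq_of_mul_eq_mul_left (pow_pos hp.out.pos _) h1
  haveI : Finite (Additive (A ⧸ frattini A)) := Nat.finite_of_card_ne_zero (by rw [hcardV]; exact (pow_pos hp.out.pos d).ne')
  have hbij : Function.Bijective ψ := by
    rw [Nat.bijective_iff_surjective_and_card]
    exact ⟨hsurj, by rw [hcardV]; simp⟩
  let Ψ := LinearEquiv.ofBijective ψ hbij
  refine ⟨fun g => Ψ.symm (mk g), fun c => ?_, fun a b => by simp only [mk_mul, map_add], fun a => ?_, fun l hl => ?_,
    fun a ha g hg i hi => ?_⟩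
  · obtain ⟨g, hg⟩ := QuotientGroup.mk_surjective (Ψ c).toMul
    exact ⟨g, Ψ.symm_apply_eq.2 (congrArg Additive.ofMul hg)⟩
  · show Ψ.symm (mk a) = 0 ↔ _
    rw [← mk_zero, LinearEquiv.map_eq_zero_iff]
  · exact Ψ.symm_apply_eq.2 (hψ1 l).symm
  · obtain ⟨c, hc, hc'⟩ := key (d - a) a (by omega) g hg
    show Ψ.symm (mk g) i = 0
    rw [show Ψ.symm (mk g) = c from Ψ.symm_apply_eq.2 hc'.symm]
    exact hc i hi

/-- Automorphisms as matrices on the Frattini quotient. -/
theorem exists_rep {P : Type u} [Group P] {d : ℕ} (π : P → (Fin d → ZMod p))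
    (hsurj : Function.Surjective π) (hmul : ∀ a b, π (a * b) = π a + π b)
    (hker : ∀ a, π a = 0 ↔ a ∈ frattini P) :
    ∃ R : MulAut P →* Matrix (Fin d) (Fin d) (ZMod p), ∀ α a, R α *ᵥ π a = π (α a) := by
  have hone : π 1 = 0 := (hker 1).2 (one_mem _)
  have hinv : ∀ a, π a⁻¹ = -π a := fun a =>
    eq_neg_of_add_eq_zero_left (by rw [← hmul, inv_mul_cancel, hone])
  have hcongr : ∀ (α : MulAut P) {a b : P}, π a = π b → π (α a) = π (α b) := by
    intro α a b hab
    have h1 : a⁻¹ * b ∈ frattini P := (hker _).1 (by rw [hmul, hinv, hab, neg_add_cancel])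
    have h2 : (frattini P).comap α.toMonoidHom = frattini P := (frattini_characteristic (G := P)).fixed α
    have h3 : α (a⁻¹ * b) ∈ frattini P := h2.symm.le h1
    rwa [← hker, map_mul, map_inv, hmul, hinv, neg_add_eq_zero] at h3
  let act : MulAut P → ((Fin d → ZMod p) →ₗ[ZMod p] (Fin d → ZMod p)) := fun α =>
    AddMonoidHom.toZModLinearMap p (AddMonoidHom.mk' (fun v => π (α (Function.surjInv hsurj v)))
      fun v w => by
        rw [hcongr α (b := Function.surjInv hsurj v * Function.surjInv hsurj w)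
          (by rw [hmul, Function.surjInv_eq hsurj, Function.surjInv_eq hsurj, Function.surjInv_eq hsurj]),
          map_mul, hmul])
  have hact : ∀ α a, act α (π a) = π (α a) := fun α a => hcongr α (Function.surjInv_eq hsurj (π a))
  let R : MulAut P →* Module.End (ZMod p) (Fin d → ZMod p) :=
    { toFun := act
      map_one' := LinearMap.ext fun v => by
        obtain ⟨a, rfl⟩ := hsurj v
        rw [hact]; rfl
      map_mul' := fun α β => LinearMap.ext fun v => by
        obtain ⟨a, rfl⟩ := hsurj v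
        rw [Module.End.mul_apply, hact, hact, hact]; rfl }
  refine ⟨(LinearMap.toMatrixAlgEquiv' (R := ZMod p) (n := Fin d)).toMonoidHom.comp R, fun α a => ?_⟩
  show LinearMap.toMatrixAlgEquiv' (act α) *ᵥ π a = _
  rw [← Matrix.toLinAlgEquiv'_apply, Matrix.toLinAlgEquiv'_toMatrixAlgEquiv', hact]

/-- The matrix of conjugation by `g` in given coordinates. -/
def conjMat {A : Subgroup X} [A.Normal] {d : ℕ} (π : A → (Fin d → ZMod p)) (b : Fin d → A) (g : X) :
    Matrix (Fin d) (Fin d) (ZMod p) :=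
  Matrix.of fun i l => π (MulAut.conjNormal g (b l)) i

/-- The matrices of the conjugation action on the Frattini quotient of a term of the series. -/
theorem series_data (h : MCl p n X) (h4 : 4 ≤ n) (hp3 : 3 ≤ p) {r : ℕ} (hr : 1 ≤ r) (hr' : r ≤ n - 2)
    {A : Subgroup X} [A.Normal] (hA : A = (⊤ : Subgroup X).lowerCentralSeries r) :
    ∃ (d : ℕ) (π : A → (Fin d → ZMod p)) (b : Fin d → A) (s : X),
      d ≤ p - 1 ∧ Function.Surjective π ∧ (∀ x y, π (x * y) = π x + π y) ∧
      (∀ x, π x = 0 ↔ x ∈ frattini A) ∧ (∀ l, π (b l) = Pi.single l 1) ∧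
      (conjMat π b s = 1 + shift (ZMod p) d) ∧
      (∀ g : X, Low (fdeg d) 1 (conjMat π b g - 1)) ∧
      (∀ g : X, ∃ α, ∀ i l : Fin d, (i : ℕ) = (l : ℕ) + 1 → (l : ℕ) + 3 ≤ d →
        (conjMat π b g - 1) i l = α) ∧
      (r = 1 ∨ ∃ w, ⁅s, w⁆ ∉ A ∧ ⁅⁅s, w⁆, s⁆ ∈ A ∧ ⁅⁅s, w⁆, w⁆ ∈ A) := by
  subst hA
  set A := (⊤ : Subgroup X).lowerCentralSeries r with hA
  obtain ⟨d, hd1, hdp, hrd, hΦ⟩ := exists_frattini_eq h h4 hp3 hr hr'
  obtain ⟨s, hs1, hs⟩ := h.exists_outside hp3 h4
  obtain ⟨u, hu, hu'⟩ := h.ne_step hr hr'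
  have hes : ∀ a, eSeq s u a ∈ (⊤ : Subgroup X).lowerCentralSeries (r + a) := by
    intro a
    induction a with
    | zero => exact hu
    | succ a ih => exact L_comm_x ih s
  have hee : ∀ a, r + a ≤ n - 2 → eSeq s u a ∉ (⊤ : Subgroup X).lowerCentralSeries (r + a + 1) := by
    intro a
    induction a with
    | zero => exact fun _ => hu'
    | succ a ih =>
      intro ha hc
      exact hs (r + a) (by omega) (by omega) (h.mem_K_of_one (by omega) (hes a) (ih (by omega)) hc)
  obtain ⟨π, hsurj, hmul, hker, hπe, hfilt⟩ := exists_coords h hr hrd hΦ (eSeq s u) (fun a _ => hes a)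
    (fun a ha => hee a (by omega))
  let b : Fin d → A := fun l => ⟨eSeq s u l, L_anti (Nat.le_add_right r _) (hes l)⟩
  have hb : ∀ l, π (b l) = Pi.single l 1 := fun l => hπe l _
  set M : X → Matrix (Fin d) (Fin d) (ZMod p) := conjMat π b with hM
  -- conjugation as a commutator
  have hent : ∀ (g : X) (i l : Fin d), ∃ c : A, (c : X) = ⁅g, eSeq s u l⁆ ∧
      (M g - 1) i l = π c i := by
    intro g i l
    have hc : ⁅g, eSeq s u l⁆ ∈ A := L_anti (Nat.le_add_right r _) (L_comm_x (hes l) g |> L_anti (Nat.le_succ _))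
    refine ⟨⟨_, hc⟩, rfl, ?_⟩
    have h1 : MulAut.conjNormal g (b l) = ⟨_, hc⟩ * b l := Subtype.ext (by
      show g * eSeq s u l * g⁻¹ = ⁅g, eSeq s u l⁆ * eSeq s u l
      rw [commutatorElement_def, inv_mul_cancel_right])
    rw [Matrix.sub_apply]
    show π (MulAut.conjNormal g (b l)) i - _ = _
    rw [h1, hmul, hb, Pi.add_apply, Matrix.one_apply, Pi.single_apply, add_sub_cancel_right]
  have hzero : ∀ (c : A) (a : ℕ) (i : Fin d), (c : X) ∈ (⊤ : Subgroup X).lowerCentralSeries (r + a) →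
      (i : ℕ) < a → π c i = 0 := by
    intro c a i hc hi
    rcases le_or_gt a d with had | had
    · exact hfilt a had c hc i hi
    · exact hfilt d le_rfl c (L_anti (by omega) hc) i i.2
  have hlow : ∀ g, Low (fdeg d) 1 (M g - 1) := by
    intro g i l hne
    obtain ⟨c, hc, hcπ⟩ := hent g i l
    rw [hcπ] at hne
    by_contra hlt
    refine hne (hzero c (l + 1) i (hc ▸ L_comm_x (hes l) g) ?_)
    simp only [fdeg] at hlt
    omega
  have hsM : M s = 1 + shift (ZMod p) d := by
    rw [← sub_eq_iff_eq_add']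
    ext i l
    obtain ⟨c, hc, hcπ⟩ := hent s i l
    rw [hcπ, shift_apply]
    rcases Nat.lt_or_ge ((l : ℕ) + 1) d with hl | hl
    · have e : c = b ⟨(l : ℕ) + 1, hl⟩ := Subtype.ext hc
      rw [e, hb, Pi.single_apply]
      simp only [Fin.ext_iff]
    · rw [hzero c d i (by rw [hc]; exact L_anti (by omega) (hes ((l : ℕ) + 1))) i.2, if_neg (by omega)]
  have hM_mul : ∀ g g', M (g * g') = M g * M g' := by
    obtain ⟨R, hR⟩ := exists_rep π hsurj hmul hker
    have e : ∀ g, M g = R (MulAut.conjNormal g) := fun g => by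
      ext i l
      show π _ i = _
      rw [← hR, hb, Matrix.mulVec_single_one]
      rfl
    intro g g'
    rw [e, e, e, map_mul, map_mul]
  have hM_one : M 1 = 1 := by
    ext i l
    show π (MulAut.conjNormal 1 (b l)) i = _
    rw [map_one, MulAut.one_apply, hb, Pi.single_apply, Matrix.one_apply]
  refine ⟨d, π, b, s, hdp, hsurj, hmul, hker, hb, hsM, hlow, fun g => ?_, ?_⟩
  · -- decompose along the first two-step centralizer
    have hn3 : 1 ≤ n - 3 := by omega
    haveI : (K X 1).Normal := normal_of_lcs_le (h.L1_le_K 1)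
    have htop : zpowers s ⊔ K X 1 = ⊤ := by
      by_contra hne
      obtain ⟨w, hwK, hw⟩ : ∃ w ∈ K X 1, w ∉ (⊤ : Subgroup X).lowerCentralSeries 1 := by
        obtain ⟨w, h1, h2⟩ := h.exists_mem_K le_rfl hn3
        exact ⟨w, h1, h2⟩
      exact hs 1 le_rfl hn3 (h.le_of_mem hne ((h.L1_le_K 1).trans le_sup_right) (h.L1_le_K 1) hw
        (mem_sup_right hwK) hwK (mem_sup_left (mem_zpowers s)))
    obtain ⟨z, hz, k, hk, rfl⟩ := mem_sup_of_normal_right.1 (htop.symm ▸ mem_top g : g ∈ zpowers s ⊔ K X 1)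
    obtain ⟨α, rfl⟩ : ∃ α : ℕ, s ^ α = z := (mem_powers_iff_mem_zpowers.2 hz)
    refine ⟨(α : ZMod p), fun i l hil hl => ?_⟩
    have hpow : M (s ^ α) = M s ^ α := by
      clear hk hz
      induction α with
      | zero => rw [pow_zero, pow_zero, hM_one]
      | succ α ih => rw [pow_succ, pow_succ, hM_mul, ih]
    show (M (s ^ α * k) - 1) i l = _
    have hsplit : M (s ^ α * k) - 1 = (M s ^ α - 1) + (M k - 1) + (M s ^ α - 1) * (M k - 1) := by
      rw [hM_mul, hpow]; noncomm_ring
    obtain ⟨hl1, hc1⟩ := pow_sub_one (le_refl 1) (hlow s) α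
    rw [hsplit, Matrix.add_apply, Matrix.add_apply,
      (hl1.mul (hlow k)).apply_eq_zero (by simp only [fdeg]; omega),
      hc1.apply_eq (by simp only [fdeg]; omega), hsM, add_sub_cancel_left, Matrix.smul_apply, shift_apply,
      if_pos hil, smul_eq_mul, mul_one, add_zero]
    obtain ⟨c, hc, hcπ⟩ := hent k i l
    have hkK : k ∈ K X (r + l) := by
      rw [middle hp3 n X h (r + l) (by omega) (by omega)]
      exact hk
    rw [hcπ, hzero c (l + 2) i (hc ▸ mem_K.1 hkK _ (hes l)) (by omega), add_zero]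
  · rcases (by omega : r = 1 ∨ 2 ≤ r) with h1 | h2
    · exact Or.inl h1
    refine Or.inr ?_
    obtain ⟨w, hw1, hw2⟩ : ∃ w, ⁅s, w⁆ ∈ (⊤ : Subgroup X).lowerCentralSeries (r - 1) ∧
        ⁅s, w⁆ ∉ (⊤ : Subgroup X).lowerCentralSeries r := by
      rcases (by omega : r = 2 ∨ 3 ≤ r) with rfl | h3
      · obtain ⟨w, hw⟩ := exists_off h (a := s)
        have h5 := h.eSeq_exact_le (m := 1) (by omega) hs1 hw (fun i h1 h2 => by omega) 1 le_rfl le_rfl
        refine ⟨w, ?_, fun hc => h5 ?_⟩
        · exact L_comm_x (i := 0) (Subgroup.mem_top w) s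
        · show ⁅w, s⁆ ∈ _
          rw [← commutatorElement_inv s w]
          exact inv_mem hc
      · obtain ⟨w, hw, hw'⟩ := h.ne_step (i := r - 2) (by omega) (by omega)
        refine ⟨w, ?_, fun hc => ?_⟩
        · have h6 := L_comm_x hw s
          rwa [show r - 2 + 1 = r - 1 by omega] at h6
        · exact hs (r - 2) (by omega) (by omega) (h.mem_K_of_one (by omega) hw hw'
            (by rwa [show r - 2 + 2 = r by omega]))
    refine ⟨w, hw2, ?_, ?_⟩
    · have h7 := inv_mem (L_comm_x hw1 s)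
      rwa [commutatorElement_inv, show r - 1 + 1 = r by omega] at h7
    · have h7 := inv_mem (L_comm_x hw1 w)
      rwa [commutatorElement_inv, show r - 1 + 1 = r by omega] at h7

end Cfsg.Agent.MaxClassNormal
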